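import Cfsg.Agent.Lib.FourMove.Basic

/-!
Groups of odd order normalizing an element of order three that moves a four group.
-/

set_option autoImplicit false
set_option linter.unusedSectionVars false
set_option linter.style.haveILetI false

open scoped commutatorElement

namespace CfsgLib.FourMove

variable {M : Type*} [CommGroup M] [Finite M]

theorem exists_pow_two (h2 : ∀ m : M, m * m = 1) (W : Subgroup M) :
    ∃ n, Nat.card W = 2 ^ n := by
  haveI : Fact (Nat.Prime 2) := ⟨Nat.prime_two⟩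
  exact IsPGroup.iff_card.mp fun w => ⟨1, by rw [pow_one, pow_two]; exact Subtype.ext (h2 w)⟩

theorem card_image (h2 : ∀ m : M, m * m = 1) {W : Subgroup M} {n : ℕ} (hn : Nat.card W = 2 ^ n) :
    Nat.card (MulAut W) = ∏ i : Fin n, (2 ^ n - 2 ^ (i : ℕ)) :=
  card_mulAut (fun w => by rw [pow_two]; exact Subtype.ext (h2 w)) hn

/-- An element of order dividing three moving a four group is fixed-point-free on it. -/
theorem eq_one_of_fixed (h2 : ∀ m : M, m * m = 1) {x : MulAut M} (hx : x ^ 3 = 1) {v : M}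
    (hv : v ∈ (mv x).range) (h : x v = v) : v = 1 := by
  obtain ⟨m, rfl⟩ := hv
  have h' : x (x m) = m := by
    rw [mv_apply, map_mul] at h
    exact mul_right_cancel (b := x m) (h.trans (mul_comm _ _))
  have h3 : x m = m := by
    have h4 := DFunLike.congr_fun hx m
    rwa [pow_succ, pow_two, MulAut.mul_apply, MulAut.mul_apply, MulAut.one_apply,
      h'] at h4
  rw [mv_apply, h3, h2]

theorem surj_on (h2 : ∀ m : M, m * m = 1) {x : MulAut M} (hx : x ^ 3 = 1) {v : M}
    (hv : v ∈ (mv x).range) : ∃ u ∈ (mv x).range, mv x u = v := by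
  let g : ↥(mv x).range → ↥(mv x).range := fun u => ⟨mv x u, ⟨u, rfl⟩⟩
  have hg : Function.Injective g := by
    intro a b hab
    have h1 : mv x (a.1 * b.1) = 1 := by
      rw [map_mul, show mv x a.1 = mv x b.1 from congrArg Subtype.val hab, h2]
    have h3 := eq_one_of_fixed h2 hx (mul_mem a.2 b.2) (eq_of_mul_self h2 (by simpa using h1))
    exact Subtype.ext (eq_of_mul_self h2 h3)
  obtain ⟨u, hu⟩ := (Finite.injective_iff_surjective.mp hg) ⟨v, hv⟩
  exact ⟨u.1, u.2, congrArg Subtype.val hu⟩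

theorem odd_of_pow {p k : ℕ} (hp : p.Prime) (hp2 : p ≠ 2) : Odd (p ^ k) :=
  (hp.odd_of_ne_two hp2).pow

/-- A subgroup of order at most sixteen has cyclic images of `p`-groups, `p ≥ 5`. -/
theorem res_eq_pow (h2 : ∀ m : M, m * m = 1) {p : ℕ} [hp : Fact p.Prime] (hp5 : 5 ≤ p)
    {T : Subgroup (MulAut M)} (hT : IsPGroup p T) {W : Subgroup M} {n : ℕ}
    (hW : Nat.card W = 2 ^ n) (hn : n ≤ 4) {k b : MulAut M} (hk : k ∈ T) (hb : b ∈ T)
    (hks : k ∈ stab W) (hbs : b ∈ stab W) (hne : res W ⟨k, hks⟩ ≠ 1) :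
    orderOf (res W ⟨k, hks⟩) = p ∧ ∃ a : ℕ, res W ⟨b, hbs⟩ = res W ⟨k, hks⟩ ^ a := by
  set P := (T.subgroupOf (stab W)).map (res W) with hP
  have hPp : IsPGroup p P :=
    (hT.comap_of_injective (stab W).subtype (stab W).subtype_injective).map _
  obtain ⟨j, hj⟩ := IsPGroup.iff_card.mp hPp
  have hkP : res W ⟨k, hks⟩ ∈ P := ⟨⟨k, hks⟩, hk, rfl⟩
  have hbP : res W ⟨b, hbs⟩ ∈ P := ⟨⟨b, hbs⟩, hb, rfl⟩
  have hj1 : j ≤ 1 := by
    by_contra hj2
    refine sq_not_dvd hn hp.out (by omega) (Or.inr (by omega)) ?_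
    rw [← card_image h2 hW]
    exact (pow_dvd_pow p (show 2 ≤ j by omega)).trans (hj ▸ P.card_subgroup_dvd_card)
  have hz : Subgroup.zpowers (res W ⟨k, hks⟩) ≤ P := Subgroup.zpowers_le.mpr hkP
  have hord : orderOf (res W ⟨k, hks⟩) ∣ p := by
    rw [← Nat.card_zpowers]
    exact (Subgroup.card_dvd_of_le hz).trans (hj ▸ (pow_dvd_pow p hj1).trans (pow_one p).dvd)
  have hordp : orderOf (res W ⟨k, hks⟩) = p :=
    ((Nat.dvd_prime hp.out).mp hord).resolve_left fun h => hne (orderOf_eq_one_iff.mp h)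
  refine ⟨hordp, ?_⟩
  have hle : P ≤ Subgroup.zpowers (res W ⟨k, hks⟩) := by
    rw [Subgroup.eq_of_le_of_card_ge hz (by
      rw [Nat.card_zpowers, hordp, hj]
      exact (Nat.pow_le_pow_right hp.out.pos hj1).trans (pow_one p).le)]
  obtain ⟨a, ha⟩ := (mem_powers_iff_mem_zpowers.mpr (hle hbP))
  exact ⟨a, ha.symm⟩

set_option maxHeartbeats 1000000 in
/-- Analysis of one conjugate. -/
theorem conjugate_data (h2 : ∀ m : M, m * m = 1) {p : ℕ} [hp : Fact p.Prime] (hp5 : 5 ≤ p)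
    {T : Subgroup (MulAut M)} (hT : IsPGroup p T) {x : MulAut M} (hx : x ^ 3 = 1)
    (hV : Nat.card (mv x).range = 4) (hxT : ∀ t ∈ T, x * t * x⁻¹ ∈ T) {t : MulAut M}
    (ht : t ∈ T) :
    t * x * t⁻¹ = x ∨ ∃ k, ∃ hks : k ∈ stab ((mv x).range ⊔ (mv (t * x * t⁻¹)).range), k ∈ T ∧
      (mv k).range = (mv x).range ⊔ (mv (t * x * t⁻¹)).range ∧
      Nat.card ↥((mv x).range ⊔ (mv (t * x * t⁻¹)).range) = 8 ∧
      (∀ w ∈ (mv x).range ⊔ (mv (t * x * t⁻¹)).range, k w = w → w = 1) ∧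
      res _ ⟨k, hks⟩ ≠ 1 := by
  set y := t * x * t⁻¹ with hy
  set W := (mv x).range ⊔ (mv y).range with hWdef
  have hVy : Nat.card (mv y).range = 4 := by
    rw [hy, range_conj, Subgroup.card_map_of_injective t.injective, hV]
  have hWx : (mv x).range ≤ W := le_sup_left
  have hWy : (mv y).range ≤ W := le_sup_right
  obtain ⟨n, hn⟩ := exists_pow_two h2 W
  have hn4 : n ≤ 4 := by
    have h := card_sup_dvd (mv x).range (mv y).range
    rw [← hWdef, hn, hV, hVy, show (4 * 4 : ℕ) = 2 ^ 4 by norm_num] at h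
    exact (Nat.pow_dvd_pow_iff_le_right one_lt_two).mp h
  set k := y * x⁻¹ with hk
  have hkT : k ∈ T := by
    rw [show k = t * (x * t⁻¹ * x⁻¹) by rw [hk, hy]; group]
    exact T.mul_mem ht (hxT _ (T.inv_mem ht))
  have hkr : (mv k).range ≤ W := range_mul_le h2 hWy ((range_inv h2 x).le.trans hWx)
  have hxs : x ∈ stab W := mem_stab h2 hWx
  have hks : k ∈ stab W := mem_stab h2 hkr
  have hodd : ∀ u ∈ T, Odd (orderOf u) := by
    intro u hu
    obtain ⟨j, hj⟩ := hT ⟨u, hu⟩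
    exact (odd_of_pow (k := j) hp.out (by omega)).of_dvd_nat
      (orderOf_dvd_of_pow_eq_one (congrArg Subtype.val hj))
  by_cases hk1 : k = 1
  · exact Or.inl (mul_inv_eq_one.mp hk1)
  have hne : res W ⟨k, hks⟩ ≠ 1 := fun h =>
    hk1 (eq_one_of_stab h2 hkr (fix_of_res_eq_one h) (hodd k hkT))
  have hxkT : x * k * x⁻¹ ∈ T := hxT k hkT
  obtain ⟨hord, a, ha⟩ := res_eq_pow h2 hp5 hT hn hn4 hkT hxkT hks
    ((stab W).mul_mem ((stab W).mul_mem hxs hks) ((stab W).inv_mem hxs)) hne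
  set κ := res W ⟨k, hks⟩ with hκ
  have hne2 : κ ^ a ≠ κ := by
    intro h
    have h1 : res W ⟨x * k * x⁻¹ * k⁻¹,
        (stab W).mul_mem ((stab W).mul_mem ((stab W).mul_mem hxs hks) ((stab W).inv_mem hxs))
          ((stab W).inv_mem hks)⟩ = 1 := by
      rw [show (⟨x * k * x⁻¹ * k⁻¹, _⟩ : stab W) =
        ⟨x * k * x⁻¹, (stab W).mul_mem ((stab W).mul_mem hxs hks) ((stab W).inv_mem hxs)⟩ *
          ⟨k, hks⟩⁻¹ from rfl, map_mul, ha, map_inv, h, mul_inv_cancel]
    have h3 := eq_one_of_stab h2 (range_commutator_le h2 hWx hkr) (fix_of_res_eq_one h1)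
      (hodd _ (T.mul_mem hxkT (T.inv_mem hkT)))
    have hc : Commute x k := by
      rw [mul_inv_eq_one, mul_inv_eq_iff_eq_mul] at h3
      exact h3
    have hy3 : y ^ 3 = 1 := by
      rw [hy, conj_pow, hx]; group
    have hk3 : k ^ 3 = 1 := by
      have : y = k * x := by rw [hk]; group
      rw [this, hc.symm.mul_pow, hx, mul_one] at hy3
      exact hy3
    obtain ⟨j, hj⟩ := hT ⟨k, hkT⟩
    refine hk1 (orderOf_eq_one_iff.mp (Nat.eq_one_of_dvd_coprimes
      (((Nat.coprime_primes hp.out Nat.prime_three).mpr (by omega)).pow_left j)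
      (orderOf_dvd_of_pow_eq_one (congrArg Subtype.val hj)) (orderOf_dvd_of_pow_eq_one hk3)))
  set ξ := res W ⟨x, hxs⟩ with hξ
  have hconj : ξ * κ * ξ⁻¹ = κ ^ a := by
    rw [hξ, hκ, ← map_inv, ← map_mul, ← map_mul]
    exact ha
  have hcube : κ ^ (a ^ 3) = κ := by
    have h1 : ∀ i : ℕ, ξ ^ i * κ * (ξ ^ i)⁻¹ = κ ^ (a ^ i) := by
      intro i
      induction i with
      | zero => simp
      | succ i ih =>
        calc ξ ^ (i + 1) * κ * (ξ ^ (i + 1))⁻¹ = ξ * (ξ ^ i * κ * (ξ ^ i)⁻¹) * ξ⁻¹ := by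
              rw [pow_succ']; group
          _ = (ξ * κ * ξ⁻¹) ^ (a ^ i) := by rw [ih, conj_pow]
          _ = κ ^ (a ^ (i + 1)) := by rw [hconj, ← pow_mul, pow_succ']
    have hξ3 : ξ ^ 3 = 1 := by
      rw [hξ, ← map_pow, show (⟨x, hxs⟩ : stab W) ^ 3 = 1 from Subtype.ext hx, map_one]
    have h2' := h1 3
    rw [hξ3, one_mul, inv_one, mul_one] at h2'
    exact h2'.symm
  have hane : ¬ a ≡ 1 [MOD p] := fun h => hne2 (by
    conv_rhs => rw [← pow_one κ]
    exact pow_eq_pow_iff_modEq.mpr (hord ▸ h))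
  have ha3 : a ^ 3 ≡ 1 [MOD p] := by
    have := pow_eq_pow_iff_modEq.mp (hcube.trans (pow_one κ).symm)
    rwa [hord] at this
  have hpd : p ∣ ∏ i : Fin n, (2 ^ n - 2 ^ (i : ℕ)) := by
    rw [← card_image h2 hn, ← hord]
    exact orderOf_dvd_natCard κ
  rcases prime_of_dvd hn4 hp.out hp5 hpd with ⟨h5, -⟩ | ⟨h7, hn3⟩
  · exfalso
    subst h5
    unfold Nat.ModEq at ha3 hane
    rw [Nat.pow_mod] at ha3
    have : a % 5 < 5 := Nat.mod_lt _ (by norm_num)
    interval_cases h : a % 5 <;> simp at ha3 hane ⊢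
  -- fixed points
  set f : W →* W :=
    MonoidHom.mk' (fun w => κ w * w) fun u v => by rw [map_mul, mul_mul_mul_comm] with hf
  have hfv : ∀ w : W, ((f w : W) : M) = mv k w := fun w => rfl
  have h2W : ∀ w : W, w * w = 1 := fun w => Subtype.ext (h2 w)
  have hker : ∀ w : W, w ∈ f.ker ↔ κ w = w := fun w =>
    ⟨fun h => eq_of_mul_self h2W h, fun h => by
      show κ w * w = 1
      rw [h, h2W]⟩
  have hcm : 2 ^ n ≡ Nat.card f.ker [MOD p] := by
    rw [← hn]
    have hpz : IsPGroup p (Subgroup.zpowers κ) :=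
      IsPGroup.of_card (n := 1) (by rw [Nat.card_zpowers, hord, pow_one])
    refine (hpz.card_modEq_card_fixedPoints W).trans (congrArg (· % p) ?_)
    refine Nat.card_congr (Equiv.subtypeEquivRight fun w => ?_)
    rw [hker]
    refine ⟨fun h => h ⟨κ, Subgroup.mem_zpowers κ⟩, fun h g => ?_⟩
    obtain ⟨g, hg⟩ := g
    have : Subgroup.zpowers κ ≤ MulAction.stabilizer (MulAut W) w :=
      Subgroup.zpowers_le.mpr h
    exact this hg
  have hkerne : Nat.card f.ker < 2 ^ n := by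
    rw [← hn]
    refine lt_of_le_of_ne (Subgroup.card_le_card_group _) fun h => hne ?_
    refine MulEquiv.ext fun w => ?_
    exact (hker w).mp ((Subgroup.eq_top_of_card_eq f.ker h) ▸ Subgroup.mem_top w)
  obtain ⟨j, hj⟩ : ∃ j ≤ n, Nat.card f.ker = 2 ^ j :=
    (Nat.dvd_prime_pow Nat.prime_two).mp (hn ▸ f.ker.card_subgroup_dvd_card)
  rw [hj.2] at hcm hkerne
  have hj' : j < n := (Nat.pow_lt_pow_iff_right (by norm_num)).mp hkerne
  subst h7
  have hcases : (n = 3 ∧ j = 0) ∨ (n = 4 ∧ j = 1) := by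
    unfold Nat.ModEq at hcm
    interval_cases n <;> interval_cases j <;> first | omega | (norm_num at hcm)
  rcases hcases with ⟨rfl, rfl⟩ | ⟨rfl, rfl⟩
  · refine Or.inr ⟨k, hks, hkT, le_antisymm hkr ?_, by rw [hn]; rfl, ?_, hne⟩
    · have hinj : Function.Injective f :=
        (MonoidHom.ker_eq_bot_iff f).mp (Subgroup.card_eq_one.mp (by rw [hj.2]; rfl))
      intro w hw
      obtain ⟨u, hu⟩ := Finite.injective_iff_surjective.mp hinj ⟨w, hw⟩
      exact ⟨u, (hfv u).symm.trans (congrArg Subtype.val hu)⟩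
    · intro w hw hkw
      have h1 : (⟨w, hw⟩ : W) ∈ f.ker := (hker _).mpr (Subtype.ext hkw)
      rw [Subgroup.card_eq_one.mp (show Nat.card f.ker = 1 by rw [hj.2]; rfl),
        Subgroup.mem_bot] at h1
      exact congrArg Subtype.val h1
  exfalso
  have hrange : Nat.card f.range = 8 := by
    have h := f.ker.card_mul_index
    rw [Subgroup.index_ker, hn, hj.2] at h
    omega
  have hinf : f.ker ⊓ f.range = ⊥ := by
    rw [eq_bot_iff]
    rintro z ⟨hz, w, rfl⟩
    have hzf := (hker _).mp hz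
    have key : ∀ i : ℕ, (κ ^ i) w = f w ^ i * w := by
      intro i
      induction i with
      | zero => simp
      | succ i ih =>
        have hw' : κ w = f w * w := by
          show κ w = κ w * w * w
          rw [mul_assoc, h2W, mul_one]
        rw [pow_succ', MulAut.mul_apply, ih, map_mul, map_pow, hzf, hw', pow_succ, mul_assoc]
    have h7 := key 7
    rw [← hord, pow_orderOf_eq_one, MulAut.one_apply, hord] at h7
    have h8 := mul_eq_right.mp h7.symm
    rw [show (7 : ℕ) = 2 * 3 + 1 from rfl, pow_succ, pow_mul, pow_two, h2W, one_pow, one_mul] at h8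
    exact Subgroup.mem_bot.mpr h8
  have hξC : ∀ c ∈ f.ker, ξ c = c := by
    intro c hc
    have hcκ := (hker _).mp hc
    have hord' : orderOf (κ ^ a) = 7 := by
      rcases (Nat.dvd_prime hp.out).mp (hord ▸ orderOf_pow_dvd (x := κ) a) with h | h
      · exfalso
        have h1 : κ ^ a = 1 := orderOf_eq_one_iff.mp h
        apply hne
        rw [h1, mul_inv_eq_one] at hconj
        exact mul_eq_left.mp hconj
      · exact h
    have hmem : κ ∈ Subgroup.zpowers (κ ^ a) := by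
      rw [Subgroup.eq_of_le_of_card_ge (K := Subgroup.zpowers κ)
        (Subgroup.zpowers_le.mpr ((Subgroup.zpowers κ).pow_mem (Subgroup.mem_zpowers κ) a))
        (by rw [Nat.card_zpowers, Nat.card_zpowers, hord, hord'])]
      exact Subgroup.mem_zpowers κ
    have h1 : (κ ^ a) (ξ c) = ξ c := by
      rw [← hconj, MulAut.mul_apply, MulAut.mul_apply, MulAut.inv_apply_self, hcκ]
    have h3 : κ ∈ MulAction.stabilizer (MulAut W) (ξ c) :=
      Subgroup.zpowers_le.mpr (show κ ^ a ∈ MulAction.stabilizer (MulAut W) (ξ c) from h1) hmem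
    have hξc : ξ c ∈ f.ker := (hker _).mpr h3
    have htwo : Nat.card f.ker = 2 := hj.2
    by_contra hcne
    rcases eq_or_ne c 1 with rfl | hc1
    · exact hcne (map_one ξ)
    obtain ⟨u, -, huniq⟩ := Nat.card_eq_two_iff' (1 : f.ker) |>.mp htwo
    have e1 := huniq ⟨c, hc⟩ fun h => hc1 (congrArg Subtype.val h)
    have e2 := huniq ⟨ξ c, hξc⟩ fun h => hc1 (ξ.injective ((congrArg Subtype.val h).trans (map_one ξ).symm))
    exact hcne (congrArg Subtype.val (e2.trans e1.symm))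
  have hκN : ∀ i : ℕ, ∀ w : W, (κ ^ i) w * w ∈ f.range := by
    intro i
    induction i with
    | zero => intro w; simp [h2W]
    | succ i ih =>
      intro w
      have h := mul_mem (ih (κ w)) (⟨w, rfl⟩ : f w ∈ f.range)
      rw [show f w = κ w * w from rfl, mul_assoc, ← mul_assoc (κ w), h2W, one_mul] at h
      rw [pow_succ, MulAut.mul_apply]
      exact h
  have hξN : ∀ z ∈ f.range, ξ z ∈ f.range := by
    rintro _ ⟨w, rfl⟩
    have h := hκN a (ξ w)
    rw [← hconj, MulAut.mul_apply, MulAut.mul_apply, MulAut.inv_apply_self, ← map_mul] at h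
    exact h
  have hdec : f.ker ⊔ f.range = ⊤ := by
    apply Subgroup.eq_top_of_card_eq
    have h := card_sup_mul f.ker f.range
    have h1 : (f.ker.subtype.coprod f.range.subtype).ker = ⊥ := by
      rw [eq_bot_iff]
      rintro ⟨u, v⟩ huv
      rw [MonoidHom.mem_ker] at huv
      have huv' : (u : W) * v = 1 := huv
      have e := eq_of_mul_self h2W huv'
      have hu : (u : W) ∈ f.ker ⊓ f.range := ⟨u.2, e ▸ v.2⟩
      rw [hinf, Subgroup.mem_bot] at hu
      rw [Subgroup.mem_bot]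
      exact Prod.ext (Subtype.ext hu) (Subtype.ext (e ▸ hu))
    rw [h1, Subgroup.card_bot, mul_one, hj.2, hrange] at h
    rw [h, hn]
    norm_num
  have hxN : ∀ w : W, ξ w * w ∈ f.range := by
    intro w
    obtain ⟨c, hc, z, hz, rfl⟩ := Subgroup.mem_sup.mp (hdec ▸ Subgroup.mem_top w)
    rw [map_mul, hξC c hc, mul_mul_mul_comm, h2W, one_mul]
    exact mul_mem (hξN z hz) hz
  have hsub : W ≤ f.range.map W.subtype := by
    refine sup_le (fun v hv => ?_) (fun v hv => ?_)
    · obtain ⟨u, hu, rfl⟩ := surj_on h2 hx hv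
      exact ⟨_, hxN ⟨u, hWx hu⟩, rfl⟩
    · have hy3 : y ^ 3 = 1 := by rw [hy, conj_pow, hx]; group
      obtain ⟨u, hu, rfl⟩ := surj_on h2 hy3 hv
      refine ⟨_, mul_mem (hκN 1 (ξ ⟨u, hWy hu⟩)) (hxN ⟨u, hWy hu⟩), ?_⟩
      show (k ^ (1 : ℕ) : MulAut M) (x u) * x u * (x u * u) = y u * u
      rw [pow_one, mul_assoc, ← mul_assoc (x u) (x u), h2, one_mul, hk, MulAut.mul_apply,
        MulAut.inv_apply_self]
  have := Subgroup.card_le_of_le hsub
  rw [Subgroup.card_subtype, hrange, hn] at this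
  norm_num at this

/-- A `p`-group, `p ≥ 5`, normalized by `x` normalizes a subgroup of order at most eight
containing the four group moved by `x`. -/
theorem exists_invariant (h2 : ∀ m : M, m * m = 1) {p : ℕ} [hp : Fact p.Prime] (hp5 : 5 ≤ p)
    {T : Subgroup (MulAut M)} (hT : IsPGroup p T) {x : MulAut M} (hx : x ^ 3 = 1)
    (hV : Nat.card (mv x).range = 4) (hxT : ∀ t ∈ T, x * t * x⁻¹ ∈ T) :
    ∃ U : Subgroup M, (mv x).range ≤ U ∧ Nat.card U ∣ 8 ∧ ∀ t ∈ T, ∀ u ∈ U, t u ∈ U := by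
  set U := Subgroup.closure {u : M | ∃ t ∈ T, u ∈ (mv (t * x * t⁻¹)).range} with hU
  have hVU : (mv x).range ≤ U := fun v hv =>
    Subgroup.subset_closure ⟨1, T.one_mem, by simpa using hv⟩
  have hinv : ∀ t ∈ T, ∀ u ∈ U, t u ∈ U := by
    intro t ht u hu
    have h : U ≤ U.comap t.toMonoidHom := (Subgroup.closure_le _).mpr (by
      rintro v ⟨s, hs, hv⟩
      refine Subgroup.subset_closure ⟨t * s, T.mul_mem ht hs, ?_⟩
      rw [show t * s * x * (t * s)⁻¹ = t * (s * x * s⁻¹) * t⁻¹ by group, range_conj]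
      exact ⟨v, hv, rfl⟩)
    exact h hu
  refine ⟨U, hVU, ?_, hinv⟩
  by_cases hall : ∀ t ∈ T, t * x * t⁻¹ = x
  · have hUV : U = (mv x).range := le_antisymm ((Subgroup.closure_le _).mpr (by
      rintro v ⟨t, ht, hv⟩
      rwa [hall t ht] at hv)) hVU
    rw [hUV, hV]
    norm_num
  push Not at hall
  obtain ⟨t, ht, htne⟩ := hall
  obtain ⟨k, hks, hkT, hkW, hcard, hkfix, hkne⟩ :=
    (conjugate_data h2 hp5 hT hx hV hxT ht).resolve_left htne
  set W := (mv x).range ⊔ (mv (t * x * t⁻¹)).range with hW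
  refine hcard ▸ Subgroup.card_dvd_of_le ((Subgroup.closure_le _).mpr ?_)
  rintro v ⟨s, hs, hv⟩
  rcases conjugate_data h2 hp5 hT hx hV hxT hs with h | ⟨l, hls, hlT, hlW, hlcard, hlfix, -⟩
  · rw [h] at hv
    exact (le_sup_left : (mv x).range ≤ W) hv
  set W' := (mv x).range ⊔ (mv (s * x * s⁻¹)).range with hW'
  have hvW' : v ∈ W' := (le_sup_right : (mv (s * x * s⁻¹)).range ≤ W') hv
  set U' := W ⊔ W' with hU'
  obtain ⟨n, hn⟩ := exists_pow_two h2 U'
  have hn4 : n ≤ 4 := by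
    have h := card_sup_le (A := W) (B := W') (C := (mv x).range) le_sup_left le_sup_left
    rw [← hU', hn, hV, hcard, hlcard] at h
    by_contra hc
    have := Nat.pow_le_pow_right (show 0 < 2 by norm_num) (show 5 ≤ n by omega)
    omega
  have hks' : k ∈ stab U' := mem_stab h2 (hkW.le.trans le_sup_left)
  have hls' : l ∈ stab U' := mem_stab h2 (hlW.le.trans le_sup_right)
  have hne' : res U' ⟨k, hks'⟩ ≠ 1 := fun h => hkne (MulEquiv.ext fun w => Subtype.ext
    (fix_of_res_eq_one h w ((le_sup_left : W ≤ U') w.2)))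
  obtain ⟨-, i, hi⟩ := res_eq_pow h2 hp5 hT hn hn4 hkT hlT hks' hls' hne'
  have hlU : ∀ w ∈ U', l w = (k ^ i) w := by
    intro w hw
    rw [← map_pow] at hi
    exact congrArg Subtype.val (DFunLike.congr_fun hi (⟨w, hw⟩ : U'))
  let g : W' → W' := fun w => ⟨mv l w, hlW.le ⟨w, rfl⟩⟩
  have hg : Function.Injective g := by
    intro a b hab
    have h1 : mv l (a.1 * b.1) = 1 := by
      rw [map_mul, show mv l a.1 = mv l b.1 from congrArg Subtype.val hab, h2]
    exact Subtype.ext (eq_of_mul_self h2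
      (hlfix _ (mul_mem a.2 b.2) (eq_of_mul_self h2 h1)))
  obtain ⟨u, hu⟩ := Finite.injective_iff_surjective.mp hg ⟨v, hvW'⟩
  have hu' : mv l u = v := congrArg Subtype.val hu
  rw [← hu', mv_apply, hlU u ((le_sup_right : W' ≤ U') u.2)]
  exact range_pow_le h2 hkW.le i ⟨u, rfl⟩

/-- An abelian group of exponent three normalized by `x` normalizes the four group moved by `x`. -/
theorem range_invariant (h2 : ∀ m : M, m * m = 1) {x : MulAut M} (hx : x ^ 3 = 1)
    (hV : Nat.card (mv x).range = 4) {R A : Subgroup (MulAut M)} (hR : IsPGroup 3 R) (hxR : x ∈ R)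
    (hAR : A ≤ R) (hAc : ∀ a ∈ A, ∀ b ∈ A, a * b = b * a)
    (hxA : ∀ a ∈ A, x * a * x⁻¹ ∈ A) {a : MulAut M} (ha : a ∈ A) :
    ∀ v ∈ (mv x).range, a v ∈ (mv x).range := by
  haveI : Fact (Nat.Prime 3) := ⟨Nat.prime_three⟩
  set y := a * x * a⁻¹ with hy
  suffices h : (mv y).range = (mv x).range by
    intro v hv
    rw [← h, hy, range_conj]
    exact ⟨v, hv, rfl⟩
  have hyR : y ∈ R := R.mul_mem (R.mul_mem (hAR ha) hxR) (R.inv_mem (hAR ha))
  have hy3 : y ^ 3 = 1 := by rw [hy, conj_pow, hx]; group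
  have hVy : Nat.card (mv y).range = 4 := by
    rw [hy, range_conj, Subgroup.card_map_of_injective a.injective, hV]
  set W := (mv x).range ⊔ (mv y).range with hWdef
  obtain ⟨n, hn⟩ := exists_pow_two h2 W
  have hn4 : n ≤ 4 := by
    have h := card_sup_dvd (mv x).range (mv y).range
    rw [← hWdef, hn, hV, hVy, show (4 * 4 : ℕ) = 2 ^ 4 by norm_num] at h
    exact (Nat.pow_dvd_pow_iff_le_right one_lt_two).mp h
  have hxs : x ∈ stab W := mem_stab h2 le_sup_left
  have hys : y ∈ stab W := mem_stab h2 le_sup_right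
  set P := (R.subgroupOf (stab W)).map (res W) with hP
  have hPp : IsPGroup 3 P :=
    (hR.comap_of_injective (stab W).subtype (stab W).subtype_injective).map _
  obtain ⟨j, hj⟩ := IsPGroup.iff_card.mp hPp
  have hj2 : j ≤ 2 := by
    by_contra hj3
    have h : 3 ^ 3 ∣ ∏ i : Fin n, (2 ^ n - 2 ^ (i : ℕ)) := by
      rw [← card_image h2 hn]
      exact (pow_dvd_pow 3 (show 3 ≤ j by omega)).trans (hj ▸ P.card_subgroup_dvd_card)
    revert h
    interval_cases n <;> simp [Fin.prod_univ_succ]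
  have hcomm : ∀ u ∈ P, ∀ v ∈ P, u * v = v * u := by
    intro u hu v hv
    interval_cases j
    · have : P = ⊥ := Subgroup.card_eq_one.mp (by rw [hj]; rfl)
      rw [this, Subgroup.mem_bot] at hu
      rw [hu, one_mul, mul_one]
    · haveI : IsCyclic P := isCyclic_of_prime_card (p := 3) (by rw [hj]; rfl)
      exact congrArg Subtype.val (IsCyclic.commGroup.mul_comm (⟨u, hu⟩ : P) ⟨v, hv⟩)
    · exact congrArg Subtype.val
        (((IsPGroup.isMulCommutative_of_card_eq_prime_sq hj).is_comm.comm (⟨u, hu⟩ : P) ⟨v, hv⟩))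
  have hxy : Commute x y := by
    have h1 : res W ⟨x * y * x⁻¹ * y⁻¹, (stab W).mul_mem ((stab W).mul_mem ((stab W).mul_mem
        hxs hys) ((stab W).inv_mem hxs)) ((stab W).inv_mem hys)⟩ = 1 := by
      rw [show (⟨x * y * x⁻¹ * y⁻¹, _⟩ : stab W) =
        ⟨x, hxs⟩ * ⟨y, hys⟩ * ⟨x, hxs⟩⁻¹ * ⟨y, hys⟩⁻¹ from rfl, map_mul, map_mul, map_mul,
        map_inv, map_inv, hcomm _ ⟨⟨x, hxs⟩, hxR, rfl⟩ _ ⟨⟨y, hys⟩, hyR, rfl⟩]
      group
    obtain ⟨i, hi⟩ := hR ⟨x * y * x⁻¹ * y⁻¹,
      R.mul_mem (R.mul_mem (R.mul_mem hxR hyR) (R.inv_mem hxR)) (R.inv_mem hyR)⟩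
    have h3 := eq_one_of_stab h2 (range_commutator_le h2 le_sup_left le_sup_right)
      (fix_of_res_eq_one h1) ((odd_of_pow (k := i) Nat.prime_three (by norm_num)).of_dvd_nat
        (orderOf_dvd_of_pow_eq_one (congrArg Subtype.val hi)))
    rw [mul_inv_eq_one, mul_inv_eq_iff_eq_mul] at h3
    exact h3
  set z := a * y * a⁻¹ with hz
  have hzeq : z = y * x⁻¹ * y := by
    have hc : y * x⁻¹ ∈ A := by
      rw [show y * x⁻¹ = a * (x * a⁻¹ * x⁻¹) by rw [hy]; group]
      exact A.mul_mem ha (hxA _ (A.inv_mem ha))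
    have h := hAc a ha _ hc
    calc z = a * (y * x⁻¹) * (x * a⁻¹) := by rw [hz]; group
      _ = y * x⁻¹ * (a * x * a⁻¹) := by rw [h]; group
      _ = _ := by rw [← hy]
  by_contra hne
  set I := (mv x).range ⊓ (mv y).range with hI
  have hI1 : I = ⊥ := by
    by_contra hI1
    obtain ⟨⟨v, hv⟩, hv1⟩ : ∃ v : I, v ≠ 1 := by
      by_contra h
      push Not at h
      exact hI1 ((Subgroup.eq_bot_iff_forall _).mpr fun v hv => congrArg Subtype.val (h ⟨v, hv⟩))
    have hv1' : v ≠ 1 := fun h => hv1 (Subtype.ext h)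
    have hxv : x v ∈ I := by
      refine ⟨apply_mem h2 le_rfl hv.1, ?_⟩
      obtain ⟨m, hm⟩ := hv.2
      refine ⟨x m, ?_⟩
      rw [← hm, mv_apply, mv_apply, map_mul, ← MulAut.mul_apply, ← hxy.eq, MulAut.mul_apply]
    have hne' : x v ≠ v := fun h => hv1' (eq_one_of_fixed h2 hx hv.1 h)
    have h3 : 2 < Nat.card I := by
      classical
      haveI := Fintype.ofFinite I
      rw [Nat.card_eq_fintype_card]
      exact Fintype.two_lt_card_iff.mpr ⟨1, ⟨v, hv⟩, ⟨x v, hxv⟩,
        fun h => hv1' (congrArg Subtype.val h).symm,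
        fun h => hv1' (x.injective ((congrArg Subtype.val h).symm.trans (map_one x).symm)),
        fun h => hne' (congrArg Subtype.val h).symm⟩
    have h4 := Subgroup.card_dvd_of_le (inf_le_left : I ≤ (mv x).range)
    rw [hV] at h4
    have h5 := Nat.le_of_dvd (by norm_num) h4
    interval_cases hc : Nat.card I
    · norm_num at h4
    · have e1 : I = (mv x).range := Subgroup.eq_of_le_of_card_ge inf_le_left (by rw [hV, hc])
      have e2 : I = (mv y).range := Subgroup.eq_of_le_of_card_ge inf_le_right (by rw [hVy, hc])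
      exact hne (e2.symm.trans e1)
  have hfix : ∀ {b c : MulAut M}, Commute b c → (mv b).range ⊓ (mv c).range = ⊥ →
      ∀ v ∈ (mv b).range, c v = v := by
    intro b c hbc hbot v hv
    obtain ⟨m, hm⟩ := hv
    have h1 : mv c v ∈ (mv b).range ⊓ (mv c).range := by
      refine ⟨mul_mem ?_ ⟨m, hm⟩, ⟨v, rfl⟩⟩
      refine ⟨c m, ?_⟩
      rw [← hm, mv_apply, mv_apply, map_mul, ← MulAut.mul_apply, hbc.eq, MulAut.mul_apply]
    rw [hbot, Subgroup.mem_bot] at h1
    exact eq_of_mul_self h2 h1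
  have hsub : W ≤ (mv z).range := by
    refine sup_le (fun v hv => ?_) (fun v hv => ?_)
    · rw [← range_inv h2 x] at hv
      obtain ⟨u, hu, rfl⟩ := surj_on h2 (show x⁻¹ ^ 3 = 1 by rw [inv_pow, hx, inv_one]) hv
      rw [range_inv h2 x] at hu
      refine ⟨u, ?_⟩
      have hfu : y u = u := hfix hxy hI1 u hu
      have hu' : x⁻¹ u ∈ (mv x).range := apply_mem h2 (range_inv h2 x).le hu
      rw [mv_apply, mv_apply, hzeq, MulAut.mul_apply, MulAut.mul_apply, hfu,
        hfix hxy hI1 _ hu']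
    · rw [← range_inv h2 y] at hv
      obtain ⟨u, hu, rfl⟩ := surj_on h2 (show y⁻¹ ^ 3 = 1 by rw [inv_pow, hy3, inv_one]) hv
      rw [range_inv h2 y] at hu
      refine ⟨u, ?_⟩
      have hyu : y u ∈ (mv y).range := apply_mem h2 le_rfl hu
      have hbot : (mv y).range ⊓ (mv x).range = ⊥ := by rw [inf_comm]; exact hI1
      have hxf : x (y u) = y u := hfix hxy.symm hbot _ hyu
      have hxi : x⁻¹ (y u) = y u := by
        conv_lhs => rw [← hxf]
        exact MulAut.inv_apply_self _ _ _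
      have hyy : y (y u) = y⁻¹ u := by
        rw [← MulAut.mul_apply, ← pow_two, show y ^ 2 = y⁻¹ from
          eq_inv_of_mul_eq_one_left (by rw [← pow_succ, hy3])]
      rw [mv_apply, mv_apply, hzeq, MulAut.mul_apply, MulAut.mul_apply, hxi, hyy]
  have h := Subgroup.card_le_of_le hsub
  have h16 : Nat.card W = 16 := by
    have h1 := card_sup_mul (mv x).range (mv y).range
    have hk : ((mv x).range.subtype.coprod (mv y).range.subtype).ker = ⊥ := by
      rw [eq_bot_iff]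
      rintro ⟨u, w⟩ huw
      rw [MonoidHom.mem_ker] at huw
      have huv' : (u : M) * w = 1 := huw
      have e := eq_of_mul_self h2 huv'
      have hu : (u : M) ∈ I := ⟨u.2, e ▸ w.2⟩
      rw [hI1, Subgroup.mem_bot] at hu
      rw [Subgroup.mem_bot]
      exact Prod.ext (Subtype.ext hu) (Subtype.ext (e ▸ hu))
    rw [hk, Subgroup.card_bot, mul_one, hV, hVy] at h1
    exact h1
  rw [h16, hz, range_conj, Subgroup.card_map_of_injective a.injective, hVy] at h
  norm_num at h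

end CfsgLib.FourMove
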