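import Cfsg.Prelude.Def_Transfer
import Cfsg.Prelude.Def_Solvable
import Cfsg.Agent.Lib.FourMove.Main
import Cfsg.Agent.Lib.BG.BlackburnOperators
import Cfsg.Agent.Lib.BG.PiHall
import Cfsg.Agent.Lib.Signalizer.Radical
import Cfsg.Agent.Lib.ZJ.RealElements
import Cfsg.Agent.Lib.PGroup.AlperinElementary
import Cfsg.Agent.Lib.PGroup.NormalRankTwo

/-!
A solvable group with a normal elementary abelian `2`-group on which a `3`-element moves a four
group: rank three odd subgroups with noncyclic centralizer of that four group.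
-/

set_option autoImplicit false
set_option linter.unusedSectionVars false
set_option linter.style.haveILetI false

open scoped commutatorElement Pointwise

namespace CfsgLib.FourMove

universe u

variable {S : Type u} [Group S] [Finite S]

theorem elementary_mono {p : ℕ} {A B : Subgroup S} (hA : Cfsg.IsElementaryAbelian p A) (h : B ≤ A) :
    Cfsg.IsElementaryAbelian p B := by
  refine ⟨IsMulCommutative.mk ⟨fun a b => Subtype.ext ?_⟩, fun b hb => hA.2 b (h hb)⟩
  exact congrArg (fun z : A => (z : S)) (hA.1.is_comm.comm (⟨a, h a.2⟩ : A) ⟨b, h b.2⟩)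

theorem elementary_map {p : ℕ} {T : Type*} [Group T] {A : Subgroup S} (g : S →* T)
    (hA : Cfsg.IsElementaryAbelian p A) : Cfsg.IsElementaryAbelian p (A.map g) := by
  refine ⟨IsMulCommutative.mk ⟨fun a b => Subtype.ext ?_⟩, ?_⟩
  · obtain ⟨_, x, hx, rfl⟩ := a
    obtain ⟨_, y, hy, rfl⟩ := b
    show g x * g y = g y * g x
    rw [← map_mul, ← map_mul]
    exact congrArg g (congrArg Subtype.val (hA.1.is_comm.comm (⟨x, hx⟩ : A) ⟨y, hy⟩))
  · rintro _ ⟨x, hx, rfl⟩
    rw [← map_pow, hA.2 x hx, map_one]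

theorem exists_sub_cube {p : ℕ} [Fact p.Prime] {A : Subgroup S}
    (hA : Cfsg.IsElementaryAbelian p A) (h : p ^ 3 ≤ Nat.card A) :
    ∃ B ≤ A, Cfsg.IsElementaryAbelian p B ∧ Nat.card B = p ^ 3 := by
  have hp : IsPGroup p A := fun a => ⟨1, by rw [pow_one]; exact Subtype.ext (hA.2 a a.2)⟩
  obtain ⟨n, hn⟩ := IsPGroup.iff_card.mp hp
  have h3 : 3 ≤ n := (Nat.pow_le_pow_iff_right (Fact.out : p.Prime).one_lt).mp (hn ▸ h)
  obtain ⟨K, hK⟩ := Sylow.exists_subgroup_card_pow_prime p (G := A) (n := 3)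
    (hn ▸ pow_dvd_pow p h3)
  exact ⟨K.map A.subtype, Subgroup.map_subtype_le K, elementary_mono hA (Subgroup.map_subtype_le K),
    by rw [Subgroup.card_subtype, hK]⟩

/-- Three-rank at most two for a section. -/
theorem prankLE_section (h27 : ¬ ∃ F : Subgroup S, Cfsg.IsElementaryAbelian 3 F ∧ Nat.card F = 3 ^ 3)
    {H : Subgroup S} {Q : Type u} [Group Q] [Finite Q] (π : ↥H →* Q) (hπ : Function.Surjective π)
    (hker : (Nat.card π.ker).Coprime 3) {O : Subgroup Q} (hO : IsPGroup 3 O) :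
    Cfsg.PRankLE 3 2 O := by
  haveI : Fact (Nat.Prime 3) := ⟨Nat.prime_three⟩
  intro A hAc hA3
  by_contra hbig
  obtain ⟨a, ha⟩ := IsPGroup.iff_card.mp (hO.to_subgroup A)
  have hel : Cfsg.IsElementaryAbelian 3 (A.map O.subtype) := elementary_map _ ⟨hAc, hA3⟩
  have hcard : 3 ^ 3 ≤ Nat.card (A.map O.subtype) := by
    rw [Subgroup.card_subtype, ha]
    rw [ha] at hbig
    refine Nat.pow_le_pow_right (by norm_num) ?_
    by_contra h
    exact hbig (Nat.pow_le_pow_right (by norm_num) (by omega))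
  set A' := A.map O.subtype
  set K := A'.comap π with hK
  let P : Sylow 3 K := default
  let f : ↥(P : Subgroup K) →* Q := π.comp (K.subtype.comp (P : Subgroup K).subtype)
  have hinj : Function.Injective f := by
    rw [← MonoidHom.ker_eq_bot_iff, eq_bot_iff]
    intro z hz
    obtain ⟨i, hi⟩ := P.2 z
    have hzk : ((z : K) : H) ∈ π.ker := hz
    have h1 : orderOf z ∣ 3 ^ i := orderOf_dvd_of_pow_eq_one hi
    have h2 : orderOf z ∣ Nat.card π.ker := by
      rw [← Subgroup.orderOf_coe z, ← Subgroup.orderOf_coe (z : K)]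
      exact Subgroup.orderOf_dvd_natCard π.ker hzk
    rw [Subgroup.mem_bot, ← orderOf_eq_one_iff]
    exact Nat.eq_one_of_dvd_coprimes ((hker.symm).pow_left i) h1 h2
  have hle : f.range ≤ A' := by rintro _ ⟨z, rfl⟩; exact (z : K).2
  have hAp : IsPGroup 3 A' := fun z => ⟨1, by rw [pow_one]; exact Subtype.ext (hel.2 z z.2)⟩
  obtain ⟨b, hb⟩ := IsPGroup.iff_card.mp hAp
  have hdvd : Nat.card A' ∣ Nat.card (P : Subgroup K) := by
    rw [hb]
    refine P.pow_dvd_card_of_pow_dvd_card ?_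
    rw [← hb]
    refine Subgroup.card_dvd_of_surjective (π.subgroupComap A') ?_
    rintro ⟨q, hq⟩
    obtain ⟨h, rfl⟩ := hπ q
    exact ⟨⟨h, hq⟩, rfl⟩
  have hPel : Cfsg.IsElementaryAbelian 3 (P : Subgroup K) := by
    refine ⟨IsMulCommutative.mk ⟨fun u v => hinj ?_⟩, fun u hu => ?_⟩
    · rw [map_mul, map_mul]
      exact congrArg Subtype.val
        (hel.1.is_comm.comm (⟨f u, hle ⟨u, rfl⟩⟩ : A') ⟨f v, hle ⟨v, rfl⟩⟩)
    · have h1 : (⟨u, hu⟩ : ↥(P : Subgroup K)) ^ 3 = 1 := hinj (by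
        rw [map_pow, map_one]; exact hel.2 _ (hle ⟨_, rfl⟩))
      exact congrArg Subtype.val h1
  obtain ⟨B, -, hB, hBc⟩ := exists_sub_cube (p := 3) (elementary_map (H.subtype.comp K.subtype) hPel)
    (by
      rw [Subgroup.card_map_of_injective (f := H.subtype.comp K.subtype)
        (H.subtype_injective.comp K.subtype_injective)]
      exact hcard.trans (Nat.le_of_dvd Nat.card_pos hdvd))
  exact h27 ⟨B, hB, hBc⟩

/-- Two cores in the absence of elementary subgroups of order `27`. -/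
theorem le_core (h27 : ¬ ∃ F : Subgroup S, Cfsg.IsElementaryAbelian 3 F ∧ Nat.card F = 3 ^ 3)
    [Group.IsSolvable S] {p : ℕ} [hp : Fact p.Prime] (hp2 : p ≠ 2) (hp3 : p ≠ 3) {H : Subgroup S}
    (hH : ∀ r : ℕ, r.Prime → r ∣ Nat.card H → r = p ∨ r = 3) {E : Subgroup H} (hE : IsPGroup p E) :
    E ≤ Cfsg.pCore p H := by
  haveI : Fact (Nat.Prime 3) := ⟨Nat.prime_three⟩
  haveI := Fitting.pCore_normal (G := ↥H) p
  set N := Cfsg.pCore p H
  set π := QuotientGroup.mk' N with hπ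
  have hbot : E.map π ≤ ⊥ := by
    refine le_trans ?_ (ZJ.pCore_quotient_pCore_le_bot (p := p) (G := ↥H))
    refine Signalizer.le_pCore_of_centralizes (hE.map π) fun v hv => ?_
    haveI := Fact.mk hv
    by_cases hvp : v = p
    · subst hvp
      intro u _ z hz
      have hz1 : z = 1 := Subgroup.mem_bot.mp (ZJ.pCore_quotient_pCore_le_bot hz)
      rw [hz1, one_mul, mul_one]
    have hOp : IsPGroup v (Cfsg.pCore v (↥H ⧸ N)) := Fitting.pCore_isPGroup v
    by_cases hO : Cfsg.pCore v (↥H ⧸ N) = ⊥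
    · intro u _ z hz
      rw [SetLike.mem_coe, hO, Subgroup.mem_bot] at hz
      rw [hz, one_mul, mul_one]
    have hv3 : v = 3 := by
      obtain ⟨i, hi⟩ := IsPGroup.iff_card.mp hOp
      have hi0 : i ≠ 0 := fun h => hO (Subgroup.card_eq_one.mp (by rw [hi, h, pow_zero]))
      have h1 : v ∣ Nat.card H :=
        (dvd_pow_self v hi0).trans (hi ▸ (Subgroup.card_subgroup_dvd_card _).trans
          (Subgroup.card_quotient_dvd_card N))
      exact (hH v hv h1).resolve_left hvp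
    subst hv3
    haveI := Fitting.pCore_normal (G := ↥H ⧸ N) 3
    set O := Cfsg.pCore 3 (↥H ⧸ N) with hOdef
    intro u hu z hz
    have hrk : Cfsg.PRankLE 3 2 O := by
      refine prankLE_section h27 π (QuotientGroup.mk'_surjective N) ?_ hOp
      rw [hπ, QuotientGroup.ker_mk']
      obtain ⟨i, hi⟩ := IsPGroup.iff_card.mp (Fitting.pCore_isPGroup (G := ↥H) p)
      rw [hi]
      exact ((Nat.coprime_primes hp.out Nat.prime_three).mpr hp3).pow_left i
    obtain ⟨i, hi⟩ := (hE.map π) ⟨u, hu⟩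
    have hd : orderOf (MulAut.conjNormal (H := O) u) ∣ p ^ i :=
      (orderOf_map_dvd (MulAut.conjNormal (H := O)) u).trans
        (orderOf_dvd_of_pow_eq_one (congrArg Subtype.val hi))
    have h1 : MulAut.conjNormal (H := O) u = 1 := BG.eq_one_of_three rfl hOp hrk _
      ((odd_of_pow hp.out hp2).of_dvd_nat hd)
      ((((Nat.coprime_primes hp.out Nat.prime_three).mpr hp3).pow_left i).coprime_dvd_left hd)
    have h2 := congrArg Subtype.val (DFunLike.congr_fun h1 (⟨z, hz⟩ : O))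
    rw [MulAut.conjNormal_apply, MulAut.one_apply] at h2
    exact (mul_inv_eq_iff_eq_mul.mp h2).symm
  intro e he
  exact (QuotientGroup.eq_one_iff e).mp (Subgroup.mem_bot.mp (hbot ⟨e, he, rfl⟩))

/-- A rank three group acting on a subgroup of order at most eight. -/
theorem not_cyclic {M : Subgroup S} [M.Normal] [IsMulCommutative M]
    (h2 : ∀ m : M, m * m = 1) {r : ℕ} (hr : r.Prime) (hr2 : r ≠ 2) {F : Subgroup S}
    (hF : Cfsg.IsElementaryAbelian r F) (hF3 : Nat.card F = r ^ 3) {U : Subgroup M}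
    (hU : Nat.card U ∣ 8) (hinv : ∀ a ∈ F, ∀ u ∈ U, MulAut.conjNormal (H := M) a u ∈ U)
    {V : Subgroup S} (hV : V ≤ U.map M.subtype) :
    ¬ IsCyclic ↥(F ⊓ Subgroup.centralizer (V : Set S)) := by
  intro hc
  letI : CommGroup M := { (inferInstance : Group M) with mul_comm := fun a b => mul_comm' a b }
  haveI := Fact.mk hr
  obtain ⟨n, hn⟩ := exists_pow_two h2 U
  have hn3 : n ≤ 3 := by
    rw [hn, show (8 : ℕ) = 2 ^ 3 from rfl] at hU
    exact (Nat.pow_dvd_pow_iff_le_right one_lt_two).mp hU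
  let h : F →* MulAut U := (res U).comp (((MulAut.conjNormal (H := M)).comp F.subtype).codRestrict
    (stab U) fun a => ⟨hinv a a.2, fun u hu => by
      rw [← map_inv]; exact hinv _ (F.inv_mem a.2) u hu⟩)
  have hker : ∀ a : F, a ∈ h.ker → (a : S) ∈ F ⊓ Subgroup.centralizer (V : Set S) := by
    intro a ha
    refine ⟨a.2, fun v hv => ?_⟩
    obtain ⟨u, hu, rfl⟩ := hV hv
    have h1 := congrArg Subtype.val (congrArg Subtype.val
      (DFunLike.congr_fun (MonoidHom.mem_ker.mp ha) (⟨u, hu⟩ : U)))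
    change (a : S) * (u : S) * (a : S)⁻¹ = u at h1
    exact (mul_inv_eq_iff_eq_mul.mp h1).symm
  have hFp : IsPGroup r F := fun a => ⟨1, by rw [pow_one]; exact Subtype.ext (hF.2 a a.2)⟩
  have hrange : Nat.card h.range ∣ r := by
    obtain ⟨j, hj⟩ := IsPGroup.iff_card.mp (hFp.of_surjective h.rangeRestrict h.rangeRestrict_surjective)
    refine hj ▸ (pow_dvd_pow r (?_ : j ≤ 1)).trans (pow_one r).dvd
    by_contra hj2
    refine sq_not_dvd (show n ≤ 4 by omega) hr hr2 (Or.inl hn3) ?_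
    rw [← card_image h2 hn]
    exact (pow_dvd_pow r (show 2 ≤ j by omega)).trans (hj ▸ h.range.card_subgroup_dvd_card)
  set C := F ⊓ Subgroup.centralizer (V : Set S) with hC
  have hCr : Nat.card C ∣ r := by
    rw [← IsCyclic.exponent_eq_card]
    exact Monoid.exponent_dvd_of_forall_pow_eq_one fun c =>
      Subtype.ext (hF.2 c (Subgroup.mem_inf.mp c.2).1)
  have hK : Nat.card h.ker ≤ Nat.card C := Nat.card_le_card_of_injective
    (fun a : h.ker => (⟨((a : F) : S), hker a a.2⟩ : C))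
    (fun a b hab => Subtype.ext (Subtype.ext (congrArg (fun z : C => (z : S)) hab)))
  have h1 := h.ker.card_mul_index
  rw [Subgroup.index_ker, hF3] at h1
  have h4 := Nat.mul_le_mul (hK.trans (Nat.le_of_dvd hr.pos hCr)) (Nat.le_of_dvd hr.pos hrange)
  rw [h1, ← pow_two] at h4
  exact absurd ((Nat.pow_le_pow_iff_right hr.one_lt).mp h4) (by norm_num)

theorem main [Group.IsSolvable S] (M : Subgroup S) [M.Normal] (hM : Cfsg.IsElementaryAbelian 2 M)
    (p : ℕ) (hp : p.Prime) (hp2 : p ≠ 2) (E : Subgroup S) (hE : Cfsg.IsElementaryAbelian p E)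
    (hE3 : Nat.card ↥E = p ^ 3) (Q : Subgroup S) (hQc : IsCyclic ↥Q) (hQ3 : IsPGroup 3 ↥Q)
    (hQ1 : ∀ x ∈ Q, x ^ 3 ∈ Subgroup.centralizer (M : Set S)) (hQM : Nat.card ↥⁅Q, M⁆ = 4) :
    ∃ (r : ℕ) (F : Subgroup S), r.Prime ∧ r ≠ 2 ∧ Cfsg.IsElementaryAbelian r F ∧
      Nat.card ↥F = r ^ 3 ∧
      ¬ IsCyclic ↥(F ⊓ Subgroup.centralizer ((⁅Q, M⁆ : Subgroup S) : Set S)) := by
  haveI : Fact (Nat.Prime 3) := ⟨Nat.prime_three⟩
  haveI := Fact.mk hp
  haveI := hM.1
  letI : CommGroup M := { (inferInstance : Group M) with mul_comm := fun a b => mul_comm' a b }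
  have h2 : ∀ m : M, m * m = 1 := fun m => by
    rw [← pow_two]; exact Subtype.ext (hM.2 m m.2)
  set φ : S →* MulAut M := MulAut.conjNormal with hφ
  obtain ⟨⟨q, hq⟩, hgen⟩ := hQc.exists_generator
  set x := φ q with hx
  have hx3 : x ^ 3 = 1 := by
    rw [hx, ← map_pow]
    refine MulEquiv.ext fun m => Subtype.ext ?_
    rw [MulAut.one_apply]
    show q ^ 3 * (m : S) * (q ^ 3)⁻¹ = m
    rw [← hQ1 q hq m m.2, mul_inv_cancel_right]
  have hbr : ∀ (s : S) (m : M), ((mv (φ s) m : M) : S) = ⁅s, (m : S)⁆ := by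
    intro s m
    show s * (m : S) * s⁻¹ * (m : S) = s * m * s⁻¹ * (m : S)⁻¹
    rw [show ((m : S))⁻¹ = (m : S) from
      inv_eq_of_mul_eq_one_right (congrArg Subtype.val (h2 m))]
  have hQM' : ⁅Q, M⁆ = (mv x).range.map M.subtype := by
    refine le_antisymm ?_ ?_
    · rw [Subgroup.commutator_le]
      intro s hs m hm
      obtain ⟨i, hi⟩ := mem_powers_iff_mem_zpowers.mpr (hgen ⟨s, hs⟩)
      have hsq : s = q ^ i := (congrArg Subtype.val hi).symm
      refine ⟨mv (x ^ i) ⟨m, hm⟩, range_pow_le h2 le_rfl i ⟨_, rfl⟩, ?_⟩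
      rw [Subgroup.coe_subtype, hx, ← map_pow, ← hsq, hbr]
    · rintro _ ⟨_, ⟨m, rfl⟩, rfl⟩
      rw [Subgroup.coe_subtype, hbr]
      exact Subgroup.commutator_mem_commutator hq m.2
  have hV : Nat.card (mv x).range = 4 := by
    rw [hQM', Subgroup.card_subtype] at hQM
    exact hQM
  have finish : ∀ (r : ℕ) (F : Subgroup S) (U : Subgroup M), r.Prime → r ≠ 2 →
      Cfsg.IsElementaryAbelian r F → Nat.card F = r ^ 3 → (mv x).range ≤ U → Nat.card U ∣ 8 →
      (∀ a ∈ F, ∀ u ∈ U, φ a u ∈ U) →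
      ∃ (r : ℕ) (F : Subgroup S), r.Prime ∧ r ≠ 2 ∧ Cfsg.IsElementaryAbelian r F ∧
        Nat.card ↥F = r ^ 3 ∧
        ¬ IsCyclic ↥(F ⊓ Subgroup.centralizer ((⁅Q, M⁆ : Subgroup S) : Set S)) :=
    fun r F U hr hr2 hF hF3 hVU hU hinv => ⟨r, F, hr, hr2, hF, hF3,
      not_cyclic h2 hr hr2 hF hF3 hU hinv (hQM' ▸ Subgroup.map_mono hVU)⟩
  by_cases h27 : ∃ F : Subgroup S, Cfsg.IsElementaryAbelian 3 F ∧ Nat.card F = 3 ^ 3
  · obtain ⟨F, hF, hF3⟩ := h27
    obtain ⟨R, hQR⟩ := hQ3.exists_le_sylow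
    obtain ⟨R', hFR'⟩ :=
      (show IsPGroup 3 F from IsPGroup.of_card hF3).exists_le_sylow
    obtain ⟨g, hg⟩ := MulAction.exists_smul_eq S R' R
    have hFR : F.map (MulAut.conj g).toMonoidHom ≤ (R : Subgroup S) := by
      rw [← hg]
      exact Subgroup.map_mono hFR'
    set F₀ := (F.map (MulAut.conj g).toMonoidHom).subgroupOf (R : Subgroup S) with hF₀
    have hF₀c : Nat.card F₀ = 3 ^ 3 := by
      rw [hF₀, Nat.card_congr (Subgroup.subgroupOfEquivOfLe hFR).toEquiv,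
        Subgroup.card_map_of_injective (MulAut.conj g).injective, hF3]
    have hF₀e : Cfsg.IsElementaryAbelian 3 F₀ := by
      have h := elementary_map (MulAut.conj g).toMonoidHom hF
      refine ⟨IsMulCommutative.mk ⟨fun a b => Subtype.ext (Subtype.ext ?_)⟩,
        fun a ha => Subtype.ext (h.2 _ ha)⟩
      exact congrArg (fun z : (F.map (MulAut.conj g).toMonoidHom : Subgroup S) => (z : S))
        (h.1.is_comm.comm (⟨_, a.2⟩ :
          (F.map (MulAut.conj g).toMonoidHom : Subgroup S)) ⟨_, b.2⟩)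
    have hrk : ¬ Cfsg.PRankLE 3 2 ↥(R : Subgroup S) := fun h => by
      have := h F₀ hF₀e.1 hF₀e.2
      rw [hF₀c] at this
      norm_num at this
    have hnc : ¬ IsCyclic ↥(R : Subgroup S) := fun hc => by
      haveI := hc
      have h1 : Nat.card F₀ ∣ 3 := by
        rw [← IsCyclic.exponent_eq_card]
        exact Monoid.exponent_dvd_of_forall_pow_eq_one fun a => Subtype.ext (hF₀e.2 a a.2)
      rw [hF₀c] at h1
      norm_num at h1
    obtain ⟨E₂, -, hE₂n, hE₂e, hE₂c⟩ := CyclicMax.exists_normal_rank_two R.2 (by norm_num) ⊤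
      inferInstance fun h => hnc (haveI := h; isCyclic_of_surjective Subgroup.topEquiv
        (MulEquiv.surjective _))
    haveI := hE₂n
    obtain ⟨B, -, hBn, hBe, hB27⟩ :=
      AlperinElem.exists_normal_rank_three R.2 (by norm_num) hrk hE₂e hE₂c
    set B' := B.map (R : Subgroup S).subtype with hB'
    have hB'e := elementary_map (R : Subgroup S).subtype hBe
    obtain ⟨C, hCB, hCe, hCc⟩ := exists_sub_cube (p := 3) hB'e (by
      rw [Subgroup.card_subtype]; exact hB27)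
    refine finish 3 C (mv x).range Nat.prime_three (by norm_num) hCe hCc le_rfl
      (by rw [hV]; norm_num) fun a ha => ?_
    refine range_invariant h2 hx3 hV (R := (R : Subgroup S).map φ) (A := B'.map φ)
      (R.2.map φ) ⟨q, hQR hq, rfl⟩ (Subgroup.map_mono (Subgroup.map_subtype_le B)) ?_ ?_
      ⟨a, hCB ha, rfl⟩
    · rintro _ ⟨a, ha, rfl⟩ _ ⟨b, hb, rfl⟩
      rw [← map_mul, ← map_mul]
      exact congrArg φ (congrArg Subtype.val (hB'e.1.is_comm.comm (⟨a, ha⟩ : B') ⟨b, hb⟩))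
    · rintro _ ⟨b, ⟨b', hb', rfl⟩, rfl⟩
      refine ⟨q * (b' : S) * q⁻¹, ⟨⟨q, hQR hq⟩ * b' * ⟨q, hQR hq⟩⁻¹,
        hBn.conj_mem b' hb' _, rfl⟩, ?_⟩
      rw [map_mul, map_mul, map_inv]
      rfl
  have hp3 : p ≠ 3 := fun h => h27 ⟨E, h ▸ hE, h ▸ hE3⟩
  have hp5 : 5 ≤ p := by
    have h2le := hp.two_le
    have h4 : p ≠ 4 := fun h => by rw [h] at hp; norm_num at hp
    omega
  obtain ⟨H₀, hH₀⟩ := BG.exists_piHall (G := S) {r | r = p ∨ r = 3}
  have hone : ∀ {r : ℕ} {K : Subgroup S}, r.Prime → IsPGroup r K →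
      ∀ l : ℕ, l.Prime → l ∣ Nat.card K → l = r := by
    intro r K hr hK l hl hd
    haveI := Fact.mk hr
    obtain ⟨i, hi⟩ := IsPGroup.iff_card.mp hK
    exact (Nat.prime_dvd_prime_iff_eq hl hr).mp (hl.dvd_of_dvd_pow (hi ▸ hd))
  obtain ⟨g, hg⟩ := BG.exists_conj_le_piHall hH₀ (K := Q)
    fun l hl hd => Or.inr (hone Nat.prime_three hQ3 l hl hd)
  obtain ⟨g', hg'⟩ := BG.exists_conj_le_piHall hH₀ (K := E)
    fun l hl hd => Or.inl (hone hp (IsPGroup.of_card hE3) l hl hd)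
  set H := MulAut.conj g • H₀ with hH
  set E' := E.map (MulAut.conj (g * g'⁻¹)).toMonoidHom with hE'
  have hE'H : E' ≤ H := by
    rintro _ ⟨e, he, rfl⟩
    obtain ⟨h0, hh0, rfl⟩ := hg' he
    refine ⟨h0, hh0, ?_⟩
    simp [MulAut.conj_apply]
    group
  have hE'e : Cfsg.IsElementaryAbelian p E' := elementary_map _ hE
  have hE'c : Nat.card E' = p ^ 3 := by
    rw [hE', Subgroup.card_map_of_injective (MulAut.conj (g * g'⁻¹)).injective, hE3]
  have hHcard : ∀ r : ℕ, r.Prime → r ∣ Nat.card H → r = p ∨ r = 3 := fun r hr hd =>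
    hH₀.1 r hr (by rwa [hH, ← Nat.card_congr (Subgroup.equivSMul (MulAut.conj g) H₀).toEquiv] at hd)
  have hcore : E'.subgroupOf H ≤ Cfsg.pCore p H :=
    le_core h27 hp2 hp3 hHcard (IsPGroup.of_card (n := 3) (by
      rw [Nat.card_congr (Subgroup.subgroupOfEquivOfLe hE'H).toEquiv, hE'c]))
  set T := ((Cfsg.pCore p H).map H.subtype).map φ with hT
  have hTp : IsPGroup p T := ((Fitting.pCore_isPGroup (G := ↥H) p).map _).map _
  have hxT : ∀ t ∈ T, x * t * x⁻¹ ∈ T := by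
    rintro _ ⟨_, ⟨c, hc, rfl⟩, rfl⟩
    refine ⟨_, ⟨⟨q, hg hq⟩ * c * ⟨q, hg hq⟩⁻¹,
      (Fitting.pCore_normal (G := ↥H) p).conj_mem c hc _, rfl⟩, ?_⟩
    simp [hx]
  obtain ⟨U, hVU, hU, hinv⟩ := exists_invariant h2 hp5 hTp hx3 hV hxT
  exact finish p E' U hp hp2 hE'e hE'c hVU hU fun a ha u hu =>
    hinv _ ⟨a, ⟨⟨a, hE'H ha⟩, hcore ha, rfl⟩, rfl⟩ u hu

end CfsgLib.FourMove
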