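import Mathlib

/-!
Automorphisms of an elementary abelian `2`-group: moved subgroups and small automorphism groups.
-/

set_option autoImplicit false
set_option linter.unusedSectionVars false
set_option linter.style.haveILetI false

namespace CfsgLib.FourMove

section Card

variable (A : Type*) [AddCommGroup A] [Module (ZMod 2) A]

/-- Additive automorphisms are the linear ones. -/
def addAutEquiv : AddAut A ≃ (A ≃ₗ[ZMod 2] A) where
  toFun e := e.toLinearEquiv fun c x => ZMod.map_smul e c x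
  invFun f := f.toAddEquiv
  left_inv e := AddEquiv.ext fun x => rfl
  right_inv f := LinearEquiv.ext fun x => rfl

theorem card_addAut_eq [Finite A] (n : ℕ) (hn : Nat.card A = 2 ^ n) :
    Nat.card (AddAut A) = ∏ i : Fin n, (2 ^ n - 2 ^ (i : ℕ)) := by
  haveI : Fact (Nat.Prime 2) := ⟨Nat.prime_two⟩
  have h : Module.finrank (ZMod 2) A = n := by
    have h1 := Module.natCard_eq_pow_finrank (K := ZMod 2) (V := A)
    rw [hn, Nat.card_zmod] at h1
    exact (Nat.pow_right_injective le_rfl h1).symm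
  let b : Module.Basis (Fin n) (ZMod 2) A := Module.finBasisOfFinrankEq (ZMod 2) A h
  rw [Nat.card_congr (addAutEquiv A),
    Nat.card_congr ((LinearMap.GeneralLinearGroup.generalLinearEquiv (ZMod 2) A).symm.trans
      (Units.mapEquiv (LinearMap.toMatrixAlgEquiv b).toMulEquiv)).toEquiv]
  rw [Matrix.card_GL_field, ZMod.card]

end Card

theorem card_mulAut {W : Type*} [CommGroup W] [Finite W] (h2 : ∀ w : W, w ^ 2 = 1) {n : ℕ}
    (hn : Nat.card W = 2 ^ n) : Nat.card (MulAut W) = ∏ i : Fin n, (2 ^ n - 2 ^ (i : ℕ)) := by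
  letI : Module (ZMod 2) (Additive W) := AddCommGroup.zmodModule fun x => h2 (Additive.toMul x)
  rw [← card_addAut_eq (Additive W) n (by rw [← hn]; rfl)]
  exact Nat.card_congr MulEquiv.toAdditive

theorem sq_not_dvd {n r : ℕ} (hn : n ≤ 4) (hr : r.Prime) (hr2 : r ≠ 2) (h : n ≤ 3 ∨ r ≠ 3) :
    ¬ r ^ 2 ∣ ∏ i : Fin n, (2 ^ n - 2 ^ (i : ℕ)) := by
  intro hd
  have hodd : r.Coprime 2 := (Nat.coprime_primes hr Nat.prime_two).2 hr2
  interval_cases n <;> simp [Fin.prod_univ_succ] at hd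
  · exact hr.one_lt.ne' hd
  · exact hr.one_lt.ne' hd
  · have := (Nat.pow_le_pow_left (show 3 ≤ r by have := hr.two_le; omega) 2).trans
      (Nat.le_of_dvd (by norm_num) hd)
    omega
  · have h1 : r ^ 2 ∣ 21 := ((hodd.pow 2 3).dvd_of_dvd_mul_left (m := 8) (n := 21) hd)
    have h2 := Nat.le_of_dvd (by norm_num) h1
    have : r ≤ 4 := by nlinarith
    interval_cases r <;> norm_num at *
  · have h3 : r ≠ 3 := h.resolve_left (by omega)
    have h1 : r ^ 2 ∣ 315 := ((hodd.pow 2 6).dvd_of_dvd_mul_left (m := 64) (n := 315) hd)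
    have h2 : r ^ 2 ∣ 35 := (((Nat.coprime_primes hr Nat.prime_three).2 h3).pow 2 2).dvd_of_dvd_mul_left
      (m := 9) (n := 35) h1
    have h4 := Nat.le_of_dvd (by norm_num) h2
    have : r ≤ 5 := by nlinarith
    interval_cases r <;> norm_num at *

theorem prime_of_dvd {n p : ℕ} (hn : n ≤ 4) (hp : p.Prime) (hp5 : 5 ≤ p)
    (h : p ∣ ∏ i : Fin n, (2 ^ n - 2 ^ (i : ℕ))) : (p = 5 ∧ n = 4) ∨ (p = 7 ∧ 3 ≤ n) := by
  have hodd : p.Coprime 2 := (Nat.coprime_primes hp Nat.prime_two).2 (by omega)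
  have h3 : p.Coprime 3 := (Nat.coprime_primes hp Nat.prime_three).2 (by omega)
  interval_cases n <;> simp [Fin.prod_univ_succ] at h
  · omega
  · omega
  · have := Nat.le_of_dvd (by norm_num) h
    interval_cases p <;> norm_num at *
  · have h1 : p ∣ 7 := (((hodd.pow_right 3).mul_right h3).dvd_of_dvd_mul_left (m := 24) (n := 7) h)
    exact Or.inr ⟨(Nat.prime_dvd_prime_iff_eq hp (by norm_num)).1 h1, le_rfl⟩
  · have h1 : p ∣ 35 :=
      (((hodd.pow_right 6).mul_right (h3.pow_right 2)).dvd_of_dvd_mul_left (m := 576) (n := 35) h)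
    have h4 := Nat.le_of_dvd (by norm_num) h1
    interval_cases p <;> norm_num at *

variable {M : Type*} [CommGroup M]

theorem eq_of_mul_self (h2 : ∀ m : M, m * m = 1) {a b : M} (h : a * b = 1) : a = b := by
  rw [← mul_one a, ← h2 b, ← mul_assoc, h, one_mul]

/-- `m ↦ a m * m`. -/
def mv (a : MulAut M) : M →* M :=
  MonoidHom.mk' (fun m => a m * m) fun x y => by rw [map_mul, mul_mul_mul_comm]

@[simp] theorem mv_apply (a : MulAut M) (m : M) : mv a m = a m * m := rfl

theorem apply_eq (h2 : ∀ m : M, m * m = 1) (a : MulAut M) (m : M) : a m = mv a m * m := by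
  rw [mv_apply, mul_assoc, h2, mul_one]

theorem apply_mem (h2 : ∀ m : M, m * m = 1) {a : MulAut M} {W : Subgroup M}
    (h : (mv a).range ≤ W) {w : M} (hw : w ∈ W) : a w ∈ W :=
  apply_eq h2 a w ▸ mul_mem (h ⟨w, rfl⟩) hw

theorem range_inv_le (a : MulAut M) : (mv a⁻¹).range ≤ (mv a).range := by
  rintro _ ⟨m, rfl⟩
  refine ⟨a⁻¹ m, ?_⟩
  simp [mul_comm]

theorem range_inv (h2 : ∀ m : M, m * m = 1) (a : MulAut M) : (mv a⁻¹).range = (mv a).range :=
  le_antisymm (range_inv_le a) (by simpa using range_inv_le a⁻¹)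

theorem range_mul_le (h2 : ∀ m : M, m * m = 1) {a b : MulAut M} {W : Subgroup M}
    (ha : (mv a).range ≤ W) (hb : (mv b).range ≤ W) : (mv (a * b)).range ≤ W := by
  rintro _ ⟨m, rfl⟩
  have h := mul_mem (ha ⟨b m, rfl⟩) (hb ⟨m, rfl⟩)
  simp only [mv_apply, MulAut.mul_apply] at h ⊢
  rwa [mul_assoc, ← mul_assoc (b m), h2, one_mul] at h

theorem range_pow_le (h2 : ∀ m : M, m * m = 1) {a : MulAut M} {W : Subgroup M}
    (ha : (mv a).range ≤ W) (k : ℕ) : (mv (a ^ k)).range ≤ W := by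
  induction k with
  | zero => rintro _ ⟨m, rfl⟩; simp [h2]
  | succ k ih => rw [pow_succ]; exact range_mul_le h2 ih ha

theorem range_conj (t a : MulAut M) :
    (mv (t * a * t⁻¹)).range = (mv a).range.map t.toMonoidHom := by
  ext y
  constructor
  · rintro ⟨m, rfl⟩
    exact ⟨mv a (t⁻¹ m), ⟨_, rfl⟩, by simp⟩
  · rintro ⟨_, ⟨m, rfl⟩, rfl⟩
    exact ⟨t m, by simp⟩

theorem range_commutator_le (h2 : ∀ m : M, m * m = 1) {a b : MulAut M} {W : Subgroup M}
    (ha : (mv a).range ≤ W) (hb : (mv b).range ≤ W) : (mv (a * b * a⁻¹ * b⁻¹)).range ≤ W :=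
  range_mul_le h2 (range_mul_le h2 (range_mul_le h2 ha hb) (range_inv h2 a ▸ ha))
    (range_inv h2 b ▸ hb)

/-- Stabilizing the series `1 ≤ W ≤ M` and having odd order forces triviality. -/
theorem eq_one_of_stab (h2 : ∀ m : M, m * m = 1) {u : MulAut M} {W : Subgroup M}
    (hr : (mv u).range ≤ W) (hfix : ∀ w ∈ W, u w = w) (hodd : Odd (orderOf u)) : u = 1 := by
  refine MulEquiv.ext fun m => ?_
  have key : ∀ k : ℕ, (u ^ k) m = mv u m ^ k * m := by
    intro k
    induction k with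
    | zero => simp
    | succ k ih =>
      rw [pow_succ', MulAut.mul_apply, ih, map_mul, map_pow, hfix _ (hr ⟨m, rfl⟩),
        apply_eq h2 u m, pow_succ, mul_assoc]
  have h1 := key (orderOf u)
  rw [pow_orderOf_eq_one, MulAut.one_apply] at h1
  have h3 : mv u m ^ orderOf u = 1 := mul_eq_right.mp h1.symm
  obtain ⟨k, hk⟩ := hodd
  rw [hk, pow_succ, pow_mul, pow_two, h2, one_pow, one_mul] at h3
  rw [MulAut.one_apply, apply_eq h2 u m, h3, one_mul]

/-- The automorphisms preserving `W`. -/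
def stab (W : Subgroup M) : Subgroup (MulAut M) where
  carrier := {a | (∀ w ∈ W, a w ∈ W) ∧ ∀ w ∈ W, a⁻¹ w ∈ W}
  one_mem' := ⟨fun w hw => hw, fun w hw => by simpa using hw⟩
  mul_mem' := fun {a b} ha hb => ⟨fun w hw => ha.1 _ (hb.1 w hw), fun w hw => by
    rw [mul_inv_rev]; exact hb.2 _ (ha.2 w hw)⟩
  inv_mem' := fun {a} ha => ⟨ha.2, by rw [inv_inv]; exact ha.1⟩

theorem mem_stab (h2 : ∀ m : M, m * m = 1) {a : MulAut M} {W : Subgroup M}
    (h : (mv a).range ≤ W) : a ∈ stab W :=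
  ⟨fun _ hw => apply_mem h2 h hw, fun _ hw => apply_mem h2 (range_inv h2 a ▸ h) hw⟩

/-- Restriction to an invariant subgroup. -/
def res (W : Subgroup M) : stab W →* MulAut W where
  toFun a :=
    { toFun := fun w => ⟨a.1 w, a.2.1 w w.2⟩
      invFun := fun w => ⟨a.1⁻¹ w, a.2.2 w w.2⟩
      left_inv := fun w => Subtype.ext (a.1.symm_apply_apply w)
      right_inv := fun w => Subtype.ext (a.1.apply_symm_apply w)
      map_mul' := fun u v => Subtype.ext (map_mul a.1 (u : M) v) }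
  map_one' := MulEquiv.ext fun _ => rfl
  map_mul' _ _ := MulEquiv.ext fun _ => rfl

theorem res_apply (W : Subgroup M) (a : stab W) (w : W) : ((res W a w : W) : M) = a.1 w := rfl

theorem fix_of_res_eq_one {W : Subgroup M} {a : stab W} (h : res W a = 1) :
    ∀ w ∈ W, a.1 w = w := by
  intro w hw
  have h1 := DFunLike.congr_fun h (⟨w, hw⟩ : W)
  exact congrArg Subtype.val h1

/-- The order of a join. -/
theorem card_sup_mul [Finite M] (A B : Subgroup M) :
    Nat.card ↥(A ⊔ B) * Nat.card (A.subtype.coprod B.subtype).ker = Nat.card A * Nat.card B := by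
  have h := Subgroup.card_mul_index (A.subtype.coprod B.subtype).ker
  rw [Subgroup.index_ker, MonoidHom.range_eq_map] at h
  have h1 : Subgroup.map (A.subtype.coprod B.subtype) ⊤ = A ⊔ B := by
    rw [← MonoidHom.range_eq_map]
    ext x
    constructor
    · rintro ⟨⟨a, b⟩, rfl⟩
      exact Subgroup.mul_mem_sup a.2 b.2
    · intro hx
      obtain ⟨a, ha, b, hb, rfl⟩ := Subgroup.mem_sup.mp hx
      exact ⟨⟨⟨a, ha⟩, ⟨b, hb⟩⟩, rfl⟩
  rw [h1, Nat.card_prod] at h
  rw [mul_comm, h]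

theorem card_sup_dvd [Finite M] (A B : Subgroup M) :
    Nat.card ↥(A ⊔ B) ∣ Nat.card A * Nat.card B :=
  ⟨_, (card_sup_mul A B).symm⟩

theorem card_sup_le [Finite M] {A B C : Subgroup M} (hA : C ≤ A) (hB : C ≤ B) :
    Nat.card ↥(A ⊔ B) * Nat.card C ≤ Nat.card A * Nat.card B := by
  rw [← card_sup_mul A B]
  refine Nat.mul_le_mul_left _ (Nat.card_le_card_of_injective (α := C)
    (fun c => ⟨(⟨c.1, hA c.2⟩, ⟨c.1⁻¹, inv_mem (hB c.2)⟩), ?_⟩) ?_)
  · simp [MonoidHom.mem_ker, MonoidHom.coprod_apply]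
  · intro c d hcd
    exact Subtype.ext (congrArg (fun z => (z.1.1 : M)) hcd)

end CfsgLib.FourMove
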